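import Cfsg.Agent.Lib.Golay.Dodecad
import Cfsg.Agent.Lib.Golay.Triads
import Cfsg.Agent.Lib.GolayInvol.Data

/-
The involutions of `Cfsg.M24`.
Main results (namespace `Cfsg.Agent.GolayInvol`): `involution_cases` (every involution is conjugate to
one of two representatives), `fixSet_repFix` (an octad), `repFree_ne`.
-/

set_option autoImplicit false
open scoped Pointwise
open Cfsg

namespace Cfsg.Agent.GolayInvol

open Cfsg.Agent.Golay

/-- The composite used for the normalised candidates, on bit indices. -/
def candFn (t d5 d6 i : ℕ) : ℕ := fn t (fn d5 (fn d6 i))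

/-- A candidate is no involution or is conjugate to a representative. -/
def candOK (t d5 d6 : ℕ) : Bool :=
  ((List.range 24).any fun i => candFn t d5 d6 (candFn t d5 d6 i) != i) ||
    invConj.any fun k =>
      ((List.range 24).all fun i => fn k (fn invRepFix i) == candFn t d5 d6 (fn k i)) ||
        ((List.range 24).all fun i => fn k (fn invRepFree i) == candFn t d5 d6 (fn k i))

theorem heads_ok : (invHeads.all fun t =>
    isAut t && fn t 23 == 0 && fn t 0 == 23 && fn t 1 == 2 && fn t 2 == 1) = true := by
  decide +kernel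

theorem heads_cover : ((List.range 24).all fun x =>
    [23, 0, 1, 2].contains x || invHeads.any fun t => fn t 3 == x) = true := by
  decide +kernel

theorem cand_all : (invHeads.all fun t =>
    (transTable.getD 5 []).all fun d5 => (transTable.getD 6 []).all fun d6 => candOK t d5 d6)
      = true := by
  decide +kernel

theorem conj_aut : (invConj.all fun k => isAut k) = true := by decide +kernel

theorem rep_aut : (isAut invRepFix && isAut invRepFree) = true := by decide +kernel

/-- The fixed-point-free representative. -/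
noncomputable def repFree : Equiv.Perm GolayPt := toPerm invRepFree

/-- The representative fixing an octad. -/
noncomputable def repFix : Equiv.Perm GolayPt := toPerm invRepFix

theorem repFix_mem : repFix ∈ M24 := toPerm_mem_M24 (Bool.and_eq_true_iff.1 rep_aut).1

theorem repFree_mem : repFree ∈ M24 := toPerm_mem_M24 (Bool.and_eq_true_iff.1 rep_aut).2

theorem repFix_sq : repFix * repFix = 1 := by
  have hv := validPerm_of_isAut (Bool.and_eq_true_iff.1 rep_aut).1
  refine Equiv.ext fun p => idx_injective ?_
  rw [Equiv.Perm.mul_apply, repFix, idx_toPerm hv, idx_toPerm hv]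
  exact (by decide +kernel : ∀ p : GolayPt, fn invRepFix (fn invRepFix (idx p)) = idx p) p

theorem repFree_sq : repFree * repFree = 1 := by
  have hv := validPerm_of_isAut (Bool.and_eq_true_iff.1 rep_aut).2
  refine Equiv.ext fun p => idx_injective ?_
  rw [Equiv.Perm.mul_apply, repFree, idx_toPerm hv, idx_toPerm hv]
  exact (by decide +kernel : ∀ p : GolayPt, fn invRepFree (fn invRepFree (idx p)) = idx p) p

theorem repFree_ne (p : GolayPt) : repFree p ≠ p := by
  intro h
  have := congrArg idx h
  rw [repFree, idx_toPerm (validPerm_of_isAut (Bool.and_eq_true_iff.1 rep_aut).2)] at this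
  exact (by decide +kernel : ∀ p : GolayPt, fn invRepFree (idx p) ≠ idx p) p this

/-- The mask of the fixed points of the representative fixing an octad. -/
def fixMask : ℕ := (List.range 24).foldr (fun i acc =>
  (bif fn invRepFix i == i then 1 <<< i else 0) ||| acc) 0

/-- The fixed points of `repFix` form an octad. -/
theorem fixSet_repFix : (Finset.univ.filter fun p => repFix p = p) ∈ octads := by
  have hm : (Finset.univ.filter fun p => repFix p = p) = pts fixMask := by
    have hv := validPerm_of_isAut (Bool.and_eq_true_iff.1 rep_aut).1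
    ext p
    have hd := (by decide +kernel : ∀ p : GolayPt,
      (fn invRepFix (idx p) = idx p ↔ p ∈ pts fixMask)) p
    rw [Finset.mem_filter, ← hd, repFix, ← idx_toPerm hv p]
    exact ⟨fun h => congrArg idx h.2, fun h => ⟨Finset.mem_univ _, idx_injective h⟩⟩
  rw [hm]
  exact pts_mem_octads (by decide +kernel)

theorem bpt_injective5 : ∀ i j : Fin 5, bpt i.val = bpt j.val → i = j := by decide +kernel

/-- An automorphism with a moved point moves at least four. -/
theorem exists_second_pair {g : Equiv.Perm GolayPt} (hg : g ∈ M24) {a : GolayPt} (ha : g a ≠ a) :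
    ∃ c, c ≠ a ∧ c ≠ g a ∧ g c ≠ c := by
  by_contra hcon
  push Not at hcon
  obtain ⟨t, ht, htl⟩ := exists_map_list (l := [pt 23, pt 4]) (l' := [a, g a]) (by decide)
    (by simp [Ne.symm ha]) rfl (by decide)
  simp only [List.map_cons, List.map_nil, List.cons.injEq, and_true] at htl
  set o := t • pts Golay.octad0 with hodef
  have ho : o ∈ octads := smul_mem_octads ht octad0_mem
  have hao : a ∈ o := by
    rw [← htl.1]
    exact Finset.smul_mem_smul_finset (by decide +kernel)
  have hbo : g a ∉ o := by
    rw [← htl.2]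
    intro h
    exact absurd ((Finset.smul_mem_smul_finset_iff t).1 h) (by decide +kernel)
  have heq : g • o = o := by
    refine octad_eq_of_five (smul_mem_octads hg ho) ho ?_
    have h7 : (o.erase a).card = 7 := by rw [Finset.card_erase_of_mem hao, ho.2]
    refine le_trans (by omega : 5 ≤ (o.erase a).card) (Finset.card_le_card fun p hp => ?_)
    obtain ⟨hpa, hpo⟩ := Finset.mem_erase.1 hp
    have hfix : g p = p := hcon p hpa (fun h => hbo (h ▸ hpo))
    exact Finset.mem_inter.2 ⟨by rw [← hfix]; exact Finset.smul_mem_smul_finset hpo, hpo⟩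
  exact hbo (by rw [← heq]; exact Finset.smul_mem_smul_finset hao)

/-- Every involution is conjugate to one of the representatives. -/
theorem involution_cases {g : Equiv.Perm GolayPt} (hg : g ∈ M24) (hg2 : orderOf g = 2) :
    ∃ k ∈ M24, k * repFix * k⁻¹ = g ∨ k * repFree * k⁻¹ = g := by
  have hgg : g * g = 1 := by
    have := pow_orderOf_eq_one g
    rwa [hg2, pow_two] at this
  have hgg' : ∀ p, g (g p) = p := fun p => by rw [← Equiv.Perm.mul_apply, hgg]; rfl
  obtain ⟨a, ha⟩ : ∃ a, g a ≠ a := by
    by_contra h
    push Not at h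
    have : g = 1 := Equiv.ext h
    rw [this, orderOf_one] at hg2
    omega
  obtain ⟨c, hca, hcb, hc⟩ := exists_second_pair hg ha
  have hda : g c ≠ a := fun h => hcb (by rw [← h, hgg'])
  have hdb : g c ≠ g a := fun h => hca (g.injective h)
  obtain ⟨e, he⟩ : ∃ e, e ∉ ({a, g a, c, g c} : Finset GolayPt) := by
    by_contra h
    push Not at h
    have h24 := Finset.card_le_card (s := Finset.univ) (t := ({a, g a, c, g c} : Finset GolayPt))
      fun x _ => h x
    have h4 : ({a, g a, c, g c} : Finset GolayPt).card ≤ 4 := Finset.card_le_four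
    have : (Finset.univ : Finset GolayPt).card = 24 := by decide +kernel
    omega
  simp only [Finset.mem_insert, Finset.mem_singleton, not_or] at he
  obtain ⟨t, ht, htl⟩ := exists_map_list (l := [bpt 0, bpt 1, bpt 2, bpt 3, bpt 4])
    (l' := [a, g a, c, g c, e]) (by decide +kernel)
    (by
      simp only [List.nodup_cons, List.mem_cons, List.not_mem_nil, or_false, not_or,
        List.nodup_nil, and_true, not_false_eq_true]
      exact ⟨⟨Ne.symm ha, Ne.symm hca, Ne.symm hda, Ne.symm he.1⟩,
        ⟨Ne.symm hcb, Ne.symm hdb, Ne.symm he.2.1⟩,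
        ⟨Ne.symm hc, Ne.symm he.2.2.1⟩, Ne.symm he.2.2.2⟩) rfl (by decide)
  simp only [List.map_cons, List.map_nil, List.cons.injEq, and_true] at htl
  obtain ⟨t0, t1, t2, t3, t4⟩ := htl
  set h := t⁻¹ * g * t with hhdef
  have hhM : h ∈ M24 := mul_mem (mul_mem (inv_mem ht) hg) ht
  have hh : ∀ p q : GolayPt, g (t p) = t q → h p = q := fun p q hpq => by
    rw [hhdef, Equiv.Perm.mul_apply, Equiv.Perm.mul_apply, hpq, Equiv.Perm.coe_inv,
      Equiv.symm_apply_apply]
  have h0 : h (bpt 0) = bpt 1 := hh _ _ (by rw [t0, t1])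
  have h1 : h (bpt 1) = bpt 0 := hh _ _ (by rw [t0, t1, hgg'])
  have h2 : h (bpt 2) = bpt 3 := hh _ _ (by rw [t2, t3])
  have h3 : h (bpt 3) = bpt 2 := hh _ _ (by rw [t2, t3, hgg'])
  -- choose the head
  have hx := List.all_eq_true.1 heads_cover (idx (h (bpt 4))) (List.mem_range.2 (idx_lt _))
  have hx4 : ([23, 0, 1, 2] : List ℕ).contains (idx (h (bpt 4))) = false := by
    refine Bool.eq_false_iff.2 fun hcn => ?_
    have hbp : ∀ k < 4, idx (h (bpt 4)) ≠ idx (bpt k) := by
      intro k hk heq
      have hpk : h (bpt 4) = bpt k := idx_injective heq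
      have hcase : k = 0 ∨ k = 1 ∨ k = 2 ∨ k = 3 := by omega
      have key : ∀ i < 4, bpt 4 ≠ bpt i := by decide +kernel
      rcases hcase with rfl | rfl | rfl | rfl
      · exact key 1 (by omega) (h.injective (hpk.trans h1.symm))
      · exact key 0 (by omega) (h.injective (hpk.trans h0.symm))
      · exact key 3 (by omega) (h.injective (hpk.trans h3.symm))
      · exact key 2 (by omega) (h.injective (hpk.trans h2.symm))
    simp only [List.contains_iff_mem, List.mem_cons, List.not_mem_nil, or_false] at hcn
    rcases hcn with hcn | hcn | hcn | hcn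
    · exact hbp 0 (by omega) (hcn.trans (by decide +kernel))
    · exact hbp 1 (by omega) (hcn.trans (by decide +kernel))
    · exact hbp 2 (by omega) (hcn.trans (by decide +kernel))
    · exact hbp 3 (by omega) (hcn.trans (by decide +kernel))
  rw [hx4, Bool.false_or, List.any_eq_true] at hx
  obtain ⟨u, hu, hu4⟩ := hx
  rw [beq_iff_eq] at hu4
  have huok := List.all_eq_true.1 heads_ok u hu
  simp only [Bool.and_eq_true, beq_iff_eq] at huok
  obtain ⟨⟨⟨⟨huA, hu0⟩, hu1⟩, hu2⟩, hu3⟩ := huok
  have huv := validPerm_of_isAut huA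
  have hbi : ∀ k < 7, idx (bpt k) = baseIdx.getD k 0 := idx_bpt
  have huh : ∀ i < 5, toPerm u (bpt i) = h (bpt i) := by
    intro i hi
    have hcase : i = 0 ∨ i = 1 ∨ i = 2 ∨ i = 3 ∨ i = 4 := by omega
    apply idx_injective
    rw [idx_toPerm huv, hbi i (by omega)]
    rcases hcase with rfl | rfl | rfl | rfl | rfl
    · rw [h0, hbi 1 (by omega)]; exact hu0
    · rw [h1, hbi 0 (by omega)]; exact hu1
    · rw [h2, hbi 3 (by omega)]; exact hu2
    · rw [h3, hbi 2 (by omega)]; exact hu3
    · exact hu4
  have hw : (toPerm u)⁻¹ * h ∈ chain 5 := by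
    refine mem_chain.mpr ⟨mul_mem (inv_mem (toPerm_mem_M24 huA)) hhM, fun i hi => ?_⟩
    rw [Equiv.Perm.mul_apply, ← huh i hi, Equiv.Perm.coe_inv, Equiv.symm_apply_apply]
  obtain ⟨d5, hd5, hA5, hrest⟩ := exists_transversal_mem (k := 5) (by norm_num) hw
  obtain ⟨d6, hd6, hA6, hrest6⟩ := exists_transversal_mem (k := 6) (by norm_num) hrest
  rw [show (6 + 1 : ℕ) = 7 from rfl, chain_seven, Subgroup.mem_bot, inv_mul_eq_one] at hrest6
  have hh_eq : h = toPerm u * (toPerm d5 * toPerm d6) := by
    rw [hrest6]; group
  have hfn : ∀ p, idx (h p) = candFn u d5 d6 (idx p) := fun p => by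
    rw [hh_eq, Equiv.Perm.mul_apply, Equiv.Perm.mul_apply, candFn, idx_toPerm huv,
      idx_toPerm (validPerm_of_isAut hA5), idx_toPerm (validPerm_of_isAut hA6)]
  have hok := List.all_eq_true.1 (List.all_eq_true.1 (List.all_eq_true.1 cand_all u hu) d5 hd5) d6 hd6
  rw [candOK, Bool.or_eq_true] at hok
  have hinv : ((List.range 24).any fun i => candFn u d5 d6 (candFn u d5 d6 i) != i) = false := by
    rw [List.any_eq_false]
    intro i hi
    have hpp : h (h (pt i)) = pt i := by
      rw [hhdef]; simp [hgg', Equiv.Perm.mul_apply]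
    have := congrArg idx hpp
    rw [hfn, hfn, idx_pt (List.mem_range.1 hi)] at this
    simp [this]
  rw [hinv] at hok
  simp only [Bool.false_eq_true, false_or, List.any_eq_true, Bool.or_eq_true, List.all_eq_true,
    List.mem_range, beq_iff_eq] at hok
  obtain ⟨k, hk, hk'⟩ := hok
  have hkA := List.all_eq_true.1 conj_aut k hk
  have hkv := validPerm_of_isAut hkA
  have hgh : g = t * h * t⁻¹ := by rw [hhdef]; group
  refine ⟨t * toPerm k, mul_mem ht (toPerm_mem_M24 hkA), ?_⟩
  have key : ∀ r, isAut r = true → (∀ i < 24, fn k (fn r i) = candFn u d5 d6 (fn k i)) →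
      t * toPerm k * toPerm r * (t * toPerm k)⁻¹ = g := by
    intro r hr hcomm
    have e : toPerm k * toPerm r = h * toPerm k := by
      refine Equiv.ext fun p => idx_injective ?_
      rw [Equiv.Perm.mul_apply, Equiv.Perm.mul_apply, idx_toPerm hkv,
        idx_toPerm (validPerm_of_isAut hr), hfn, idx_toPerm hkv]
      exact hcomm _ (idx_lt p)
    rw [hgh, mul_assoc t, e]
    group
  rcases hk' with hk' | hk'
  · exact Or.inl (key _ (Bool.and_eq_true_iff.1 rep_aut).1 hk')
  · exact Or.inr (key _ (Bool.and_eq_true_iff.1 rep_aut).2 hk')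

end Cfsg.Agent.GolayInvol
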